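import Groth.Agent.Lib.LoopDec25.Square
import Mathlib.AlgebraicGeometry.AffineTransitionLimit
import Mathlib.Algebra.Category.Ring.FilteredColimits
import Mathlib.CategoryTheory.Limits.Types.Filtered
import Mathlib.Algebra.Polynomial.Eval.Coeff

/-!
# Extending a point that is trivial at `Z = 0` after rescaling `Z`
-/

universe u

open AlgebraicGeometry CategoryTheory CategoryTheory.Limits Polynomial Opposite

namespace Groth.Agent.LoopDec25

variable {C : Type u} [CommRing C]

/-- `Z ↦ a Z`. -/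
noncomputable def scale (a : C) : C[X] →+* C[X] := eval₂RingHom Polynomial.C (Polynomial.C a * X)

theorem coeff_scale (a : C) (p : C[X]) (n : ℕ) : (scale a p).coeff n = a ^ n * p.coeff n := by
  induction p using Polynomial.induction_on' with
  | add p q hp hq => rw [map_add, coeff_add, coeff_add, hp, hq, mul_add]
  | monomial m r =>
    simp only [scale, coe_eval₂RingHom, eval₂_monomial, mul_pow, ← Polynomial.C_pow, ← mul_assoc, ← Polynomial.C_mul,
      coeff_C_mul_X_pow, coeff_monomial]
    by_cases h : n = m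
    · subst h; simp [mul_comm]
    · simp [h, Ne.symm h]

theorem scale_scale (a b : C) : (scale a).comp (scale b) = scale (a * b) := by
  refine RingHom.ext fun p => Polynomial.ext fun n => ?_
  simp [coeff_scale, mul_pow, mul_assoc]

theorem scale_one : scale (1 : C) = RingHom.id C[X] := RingHom.ext fun p => Polynomial.ext fun n => by
  simp [coeff_scale]

variable {D : Type u} [CommRing D] (φ : C →+* D)

theorem scale_map (a : C) : (mapRingHom φ).comp (scale a) = (scale (φ a)).comp (mapRingHom φ) :=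
  RingHom.ext fun p => Polynomial.ext fun n => by simp [coeff_scale]

/-- Pairs of a constant and a polynomial with this constant term. -/
noncomputable def pairs : Subring (C × D[X]) :=
  RingHom.eqLocus (φ.comp (RingHom.fst C D[X])) ((evalRingHom (0 : D)).comp (RingHom.snd C D[X]))

/-- The inclusion `Z ↦ Z / c^N`. -/
noncomputable def incl (v : D) (N : ℕ) : C[X] →+* pairs φ :=
  ((evalRingHom (0 : C)).prod ((scale (v ^ N)).comp (mapRingHom φ))).codRestrict (pairs φ) fun p => by
    show φ (p.eval 0) = ((scale (v ^ N)) (p.map φ)).eval 0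
    rw [← coeff_zero_eq_eval_zero, ← coeff_zero_eq_eval_zero, coeff_scale, pow_zero, one_mul, coeff_map]

variable {c : C} {v : D}

/-- The diagram `Z ↦ c Z`. -/
noncomputable def diag (c : C) : ULift.{u} ℕ ⥤ CommRingCat.{u} where
  obj _ := CommRingCat.of C[X]
  map {i j} _ := CommRingCat.ofHom (scale (c ^ (j.down - i.down)))
  map_id i := by simp [scale_one]
  map_comp {i j l} f g := by
    rw [← CommRingCat.ofHom_comp, scale_scale, ← pow_add]
    congr 3
    have h₁ : i.down ≤ j.down := leOfHom (X := ULift.{u} ℕ) f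
    have h₂ : j.down ≤ l.down := leOfHom (X := ULift.{u} ℕ) g
    omega

theorem incl_scale (hv : φ c * v = 1) {i j : ℕ} (h : i ≤ j) :
    (incl φ v j).comp (scale (c ^ (j - i))) = incl φ v i := by
  refine RingHom.ext fun p => Subtype.ext (Prod.ext ?_ ?_)
  · show (scale (c ^ (j - i)) p).eval 0 = p.eval 0
    rw [← coeff_zero_eq_eval_zero, ← coeff_zero_eq_eval_zero, coeff_scale, pow_zero, one_mul]
  · show scale (v ^ j) ((scale (c ^ (j - i)) p).map φ) = scale (v ^ i) (p.map φ)
    ext n
    simp only [coeff_scale, coeff_map, map_mul, map_pow]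
    obtain ⟨d, rfl⟩ := Nat.exists_eq_add_of_le h
    rw [Nat.add_sub_cancel_left]
    calc (v ^ (i + d)) ^ n * ((φ c ^ d) ^ n * φ (p.coeff n))
        = (v ^ i) ^ n * ((φ c * v) ^ d) ^ n * φ (p.coeff n) := by ring
      _ = (v ^ i) ^ n * φ (p.coeff n) := by rw [hv, one_pow, one_pow, mul_one]

/-- The cocone on `pairs`. -/
noncomputable def cocone (hv : φ c * v = 1) : Cocone (diag c) where
  pt := CommRingCat.of (pairs φ)
  ι :=
    { app := fun i => CommRingCat.ofHom (incl φ v i.down)
      naturality := fun i j f => CommRingCat.hom_ext (incl_scale φ hv (leOfHom (X := ULift.{u} ℕ) f)) }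

/-- `pairs` is the colimit. -/
noncomputable def isColimitCocone (hv : φ c * v = 1) (hden : ∀ d, ∃ m a, φ a = φ c ^ m * d)
    (hker : ∀ a, φ a = 0 → ∃ m, c ^ m * a = 0) : IsColimit (cocone φ hv) := by
  classical
  haveI : ReflectsColimit (diag c) (forget CommRingCat.{u}) := reflectsColimit_of_reflectsIsomorphisms _ _
  refine isColimitOfReflects (forget CommRingCat.{u}) (Types.FilteredColimit.isColimitOf' _ _ ?_ ?_)
  · intro (x : pairs φ)
    obtain ⟨⟨a, f⟩, haf⟩ := x
    choose m b hb using fun n : ℕ => hden (f.coeff n)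
    let M := (Finset.range (f.natDegree + 1)).sup m
    let p : C[X] := Polynomial.C a + ∑ n ∈ (Finset.range (f.natDegree + 1)).erase 0,
      monomial n (b n * c ^ (M - m n) * c ^ (M * (n - 1)))
    have hp : ∀ n, p.coeff n = if n = 0 then a
        else if n ∈ Finset.range (f.natDegree + 1) then b n * c ^ (M - m n) * c ^ (M * (n - 1)) else 0 := by
      intro n
      simp only [p, coeff_add, finsetSum_coeff, coeff_C, coeff_monomial, Finset.sum_ite_eq', Finset.mem_erase]
      split_ifs <;> simp_all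
    refine ⟨⟨M⟩, p, Subtype.ext (Prod.ext ?_ (Polynomial.ext fun n => ?_))⟩
    · show a = p.eval 0
      rw [← coeff_zero_eq_eval_zero, hp, if_pos rfl]
    · show f.coeff n = (scale (v ^ M) (p.map φ)).coeff n
      rw [coeff_scale, coeff_map, hp]
      by_cases hn : n = 0
      · subst hn
        have h0 : φ a = f.eval 0 := haf
        rw [if_pos rfl, pow_zero, one_mul, h0, coeff_zero_eq_eval_zero]
      rw [if_neg hn]
      by_cases hnd : n ∈ Finset.range (f.natDegree + 1)
      · obtain ⟨d, hd⟩ := Nat.exists_eq_add_of_le (show m n ≤ M from Finset.le_sup hnd)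
        obtain ⟨l, rfl⟩ : ∃ l, n = l + 1 := ⟨n - 1, by omega⟩
        rw [if_pos hnd, Nat.add_sub_cancel, map_mul, map_mul, map_pow, map_pow, hb,
          show M - m (l + 1) = d by omega]
        calc f.coeff (l + 1) = (φ c * v) ^ (M * (l + 1)) * f.coeff (l + 1) := by rw [hv, one_pow, one_mul]
          _ = _ := by rw [hd]; ring
      · have : f.natDegree < n := by simpa [Nat.lt_succ_iff] using hnd
        rw [if_neg hnd, map_zero, mul_zero, coeff_eq_zero_of_natDegree_lt this]
  · intro i (p : C[X]) (q : C[X]) hpq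
    have h₁ : ∀ n, φ ((p - q).coeff n) = 0 := fun n => by
      have h := congrArg (fun z : pairs φ => ((z : C × D[X]).2).coeff n) hpq
      change (scale (v ^ i.down) (p.map φ)).coeff n = (scale (v ^ i.down) (q.map φ)).coeff n at h
      simp only [coeff_scale, coeff_map] at h
      rw [coeff_sub, map_sub, sub_eq_zero]
      have h2 := congrArg (fun z => (φ c ^ i.down) ^ n * z) h
      simpa [← mul_assoc, ← mul_pow, hv] using h2
    have h₀ : (p - q).coeff 0 = 0 := by
      have h := congrArg (fun z : pairs φ => (z : C × D[X]).1) hpq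
      change p.eval 0 = q.eval 0 at h
      rw [coeff_sub, coeff_zero_eq_eval_zero, coeff_zero_eq_eval_zero, h, sub_self]
    choose e he using fun n => hker _ (h₁ n)
    let M := (p - q).support.sup e
    refine ⟨⟨i.down + M⟩, homOfLE (Nat.le_add_right i.down M), ?_⟩
    show scale (c ^ (i.down + M - i.down)) p = scale (c ^ (i.down + M - i.down)) q
    rw [Nat.add_sub_cancel_left, ← sub_eq_zero, ← map_sub]
    ext n
    rw [coeff_scale, coeff_zero]
    by_cases hn : n ∈ (p - q).support
    · obtain ⟨l, rfl⟩ : ∃ l, n = l + 1 := ⟨n - 1, by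
        have : n ≠ 0 := fun h => Polynomial.mem_support_iff.1 hn (h ▸ h₀)
        omega⟩
      obtain ⟨d, hd⟩ := Nat.exists_eq_add_of_le (show e (l + 1) ≤ M from Finset.le_sup hn)
      calc (c ^ M) ^ (l + 1) * (p - q).coeff (l + 1)
          = c ^ d * (c ^ M) ^ l * (c ^ e (l + 1) * (p - q).coeff (l + 1)) := by rw [hd]; ring
        _ = 0 := by rw [he, mul_zero]
    · rw [Polynomial.notMem_support_iff.1 hn, mul_zero]

/-- Extension of a point after rescaling. -/
theorem exists_extend {X S : Scheme.{u}} (fX : X ⟶ S) [LocallyOfFinitePresentation fX]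
    (hc : IsUnit (φ c)) (hden : ∀ d, ∃ m a, φ a = φ c ^ m * d) (hker : ∀ a, φ a = 0 → ∃ m, c ^ m * a = 0)
    (sS : Spec (CommRingCat.of C) ⟶ S) (h : Spec (CommRingCat.of D[X]) ⟶ X)
    (hu : Spec (CommRingCat.of C) ⟶ X) (hus : hu ≫ fX = sS)
    (hs : h ≫ fX = sp ((Polynomial.C).comp φ) ≫ sS) (hcompat : sp φ ≫ hu = sp (evalRingHom (0 : D)) ≫ h) :
    ∃ (N : ℕ) (h' : Spec (CommRingCat.of C[X]) ⟶ X), h' ≫ fX = sp (Polynomial.C : C →+* C[X]) ≫ sS ∧
      sp (evalRingHom (0 : C)) ≫ h' = hu ∧ sp (mapRingHom φ) ≫ h' = sp (scale (φ c ^ N)) ≫ h := by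
  obtain ⟨v, hv⟩ := hc.exists_right_inv
  let π₀ : pairs φ →+* C := (RingHom.fst C D[X]).comp (pairs φ).subtype
  let π₁ : pairs φ →+* D[X] := (RingHom.snd C D[X]).comp (pairs φ).subtype
  obtain ⟨huniq, σ, hσ₀, hσ₁⟩ := exists_glue π₀ π₁ φ (evalRingHom (0 : D))
    (fun d => ⟨Polynomial.C d, by simp⟩) (RingHom.ext fun x => x.2)
    (fun x h₀ h₁ => Subtype.ext (Prod.ext h₀ h₁)) (fun a f haf => ⟨⟨(a, f), haf⟩, rfl, rfl⟩) hu h hcompat
  let Dg : (ULift.{u} ℕ)ᵒᵖ ⥤ Scheme.{u} := (diag c).op ⋙ Scheme.Spec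
  let cn : Cone Dg := Scheme.Spec.mapCone (cocone φ hv).op
  let hcn : IsLimit cn := isLimitOfPreserves Scheme.Spec (isColimitCocone φ hv hden hker).op
  let t : Dg ⟶ (Functor.const _).obj S :=
    { app := fun i => sp (Polynomial.C : C →+* C[X]) ≫ sS
      naturality := fun i j f => by
        show sp (scale _) ≫ sp Polynomial.C ≫ sS = (sp Polynomial.C ≫ sS) ≫ 𝟙 S
        rw [Category.comp_id, ← Category.assoc, ← sp_comp]
        congr 2
        exact RingHom.ext fun r => by simp [scale] }
  haveI : ∀ {i j} (f : i ⟶ j), IsAffineHom (Dg.map f) := fun {i j} f =>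
    inferInstanceAs (IsAffineHom (Spec.map _))
  haveI : ∀ i, CompactSpace (Dg.obj i) := fun i => inferInstanceAs (CompactSpace (Spec (CommRingCat.of C[X])))
  haveI : ∀ i, QuasiSeparatedSpace (Dg.obj i) := fun i =>
    inferInstanceAs (QuasiSeparatedSpace (Spec (CommRingCat.of C[X])))
  have e₀ : ∀ N, π₀.comp (incl φ v N) = evalRingHom 0 := fun N => rfl
  have e₁ : ∀ N, π₁.comp (incl φ v N) = (scale (v ^ N)).comp (mapRingHom φ) := fun N => rfl
  have ha : cn.π ≫ t = (Functor.const _).map (σ ≫ fX) := by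
    ext i
    refine huniq _ _ ?_ ?_
    · show sp π₀ ≫ sp (incl φ v i.unop.down) ≫ sp Polynomial.C ≫ sS = sp π₀ ≫ σ ≫ fX
      rw [← Category.assoc, ← sp_comp, e₀, ← Category.assoc, ← sp_comp, ← Category.assoc (sp π₀) σ, hσ₀, hus,
        show (evalRingHom (0 : C)).comp Polynomial.C = RingHom.id C from RingHom.ext fun r => by simp, sp_id,
        Category.id_comp]
    · show sp π₁ ≫ sp (incl φ v i.unop.down) ≫ sp Polynomial.C ≫ sS = sp π₁ ≫ σ ≫ fX
      rw [← Category.assoc, ← sp_comp, e₁, ← Category.assoc, ← sp_comp, ← Category.assoc (sp π₁) σ, hσ₁, hs]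
      congr 2
      exact RingHom.ext fun r => by simp [scale]
  obtain ⟨⟨⟨N⟩⟩, h', hh', hh's⟩ :=
    Scheme.exists_π_app_comp_eq_of_locallyOfFinitePresentation Dg t fX cn hcn σ ha
  have hσ' : sp (incl φ v N) ≫ h' = σ := hh'
  refine ⟨N, h', hh's, ?_, ?_⟩
  · rw [← hσ₀, ← hσ', ← Category.assoc, ← sp_comp, e₀]
  · have hkey : sp (mapRingHom φ) = sp (scale (φ c ^ N)) ≫ sp π₁ ≫ sp (incl φ v N) := by
      rw [← sp_comp, ← sp_comp, e₁, ← RingHom.comp_assoc, scale_scale, ← mul_pow, hv, one_pow, scale_one,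
        RingHom.id_comp]
    rw [hkey, ← hσ₁, ← hσ']
    simp only [Category.assoc]

end Groth.Agent.LoopDec25
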