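import Groth.Agent.Lib.LoopDec25.Extend
import Mathlib.CategoryTheory.Monoidal.Cartesian.Over
import Mathlib.CategoryTheory.Monoidal.Cartesian.Grp
import Mathlib.RingTheory.Polynomial.Basic
import Mathlib.Algebra.Polynomial.AlgebraMap
import Mathlib.RingTheory.Ideal.Span
import Mathlib.RingTheory.Coprime.Lemmas

/-!
# `G₀(B) = G₀(A) G₀(A')` for based loops
-/

universe u

open AlgebraicGeometry CategoryTheory CategoryTheory.Limits Polynomial
open scoped MonObj

namespace Groth.Agent.LoopDec25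

variable {R : Type u} [CommRing R]

/-- The `R`-scheme `Spec T`. -/
noncomputable abbrev pt (T : Type u) [CommRing T] [Algebra R T] : Over (Spec (CommRingCat.of R)) :=
  Over.mk (Spec.map (CommRingCat.ofHom (algebraMap R T)))

/-- `Spec` of an algebra map. -/
noncomputable def pm {T T' : Type u} [CommRing T] [CommRing T'] [Algebra R T] [Algebra R T'] (f : T →ₐ[R] T') :
    pt (R := R) T' ⟶ pt T :=
  Over.homMk (sp f.toRingHom) (by
    show sp f.toRingHom ≫ sp (algebraMap R T) = sp (algebraMap R T')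
    rw [← sp_comp]
    exact congrArg sp f.comp_algebraMap)

theorem pm_comp {T T' T'' : Type u} [CommRing T] [CommRing T'] [CommRing T''] [Algebra R T] [Algebra R T']
    [Algebra R T''] (f : T →ₐ[R] T') (g : T' →ₐ[R] T'') : pm (g.comp f) = pm g ≫ pm f := by
  apply Over.OverMorphism.ext
  show sp (g.comp f).toRingHom = sp g.toRingHom ≫ sp f.toRingHom
  rw [← sp_comp]
  rfl

theorem pm_id (T : Type u) [CommRing T] [Algebra R T] : pm (AlgHom.id R T) = 𝟙 (pt T) :=
  Over.OverMorphism.ext (sp_id T)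

theorem pm_eq {T T' : Type u} [CommRing T] [CommRing T'] [Algebra R T] [Algebra R T'] (f : T →ₐ[R] T')
    (e : pt (R := R) T' ⟶ pt T) (he : e.left = sp f.toRingHom) : e = pm f :=
  Over.OverMorphism.ext he

variable (G : Over (Spec (CommRingCat.of R))) [GrpObj G] [LocallyOfFinitePresentation G.hom]

omit [LocallyOfFinitePresentation G.hom] in
theorem pm_pm {T T' T'' : Type u} [CommRing T] [CommRing T'] [CommRing T''] [Algebra R T] [Algebra R T']
    [Algebra R T''] (f : T →ₐ[R] T') (g : T' →ₐ[R] T'') (x : pt T ⟶ G) :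
    pm g ≫ pm f ≫ x = pm (g.comp f) ≫ x := by
  rw [pm_comp, Category.assoc]

omit [LocallyOfFinitePresentation G.hom] in
theorem pm_sq {T U U' V : Type u} [CommRing T] [CommRing U] [CommRing U'] [CommRing V] [Algebra R T] [Algebra R U]
    [Algebra R U'] [Algebra R V] {f : T →ₐ[R] U} {g : U →ₐ[R] V} {f' : T →ₐ[R] U'} {g' : U' →ₐ[R] V}
    (e : g.comp f = g'.comp f') (x : pt T ⟶ G) : pm g ≫ pm f ≫ x = pm g' ≫ pm f' ≫ x := by
  rw [pm_pm, e, ← pm_pm]

/-- The extension lemma for points of a group scheme. -/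
theorem exists_extend_point {C D : Type u} [CommRing C] [CommRing D] [Algebra R C] [Algebra R D]
    (φ : C →ₐ[R] D) (c : C) (hc : IsUnit (φ c)) (hden : ∀ d, ∃ m a, φ a = φ c ^ m * d)
    (hker : ∀ a, φ a = 0 → ∃ m, c ^ m * a = 0)
    (h : pt D[X] ⟶ G) (hh : pm ((aeval (0 : D)).restrictScalars R) ≫ h = 1) :
    ∃ (N : ℕ) (h' : pt C[X] ⟶ G), pm ((aeval (0 : C)).restrictScalars R) ≫ h' = 1 ∧
      pm (Polynomial.mapAlgHom φ) ≫ h' =
        pm ((aeval (Polynomial.C (φ c ^ N) * X : D[X])).restrictScalars R) ≫ h := by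
  have e0 : ∀ (E : Type u) [CommRing E], ((aeval (0 : E) : E[X] →ₐ[E] E) : E[X] →+* E) = evalRingHom 0 := fun E _ =>
    Polynomial.ringHom_ext (fun a => by simp) (by simp)
  have hcompat : sp φ.toRingHom ≫ (1 : pt C ⟶ G).left = sp (evalRingHom (0 : D)) ≫ h.left := by
    have : pm φ ≫ (1 : pt C ⟶ G) = pm ((aeval (0 : D)).restrictScalars R) ≫ h := by rw [hh, MonObj.comp_one]
    have h2 := congrArg CommaMorphism.left this
    simp only [pm, Over.comp_left, Over.homMk_left] at h2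
    rw [h2]
    congr 2
  obtain ⟨N, h', hs', h0', hN'⟩ := exists_extend φ.toRingHom (c := c) G.hom hc hden hker
    (sp (algebraMap R C)) h.left (1 : pt C ⟶ G).left (Over.w _) (by
      refine (Over.w h).trans ?_
      show sp (algebraMap R D[X]) = sp (Polynomial.C.comp φ.toRingHom) ≫ sp (algebraMap R C)
      rw [← sp_comp, RingHom.comp_assoc, show φ.toRingHom.comp (algebraMap R C) = algebraMap R D from φ.comp_algebraMap]) hcompat
  have hw : h' ≫ G.hom = (pt (R := R) C[X]).hom := by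
    rw [hs', ← sp_comp]
    exact congrArg sp (IsScalarTower.algebraMap_eq R C C[X]).symm
  refine ⟨N, Over.homMk h' hw, ?_, ?_⟩
  · apply Over.OverMorphism.ext
    simp only [pm, Over.comp_left, Over.homMk_left]
    rw [← h0']
    congr 2
  · apply Over.OverMorphism.ext
    simp only [pm, Over.comp_left, Over.homMk_left]
    refine Eq.trans ?_ (hN'.trans ?_)
    · congr 1
    · congr 2

/-- Localisation properties pass to polynomial rings. -/
theorem poly_loc {C D : Type u} [CommRing C] [CommRing D] [Algebra R C] [Algebra R D] (φ : C →ₐ[R] D) (c : C)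
    (hc : IsUnit (φ c)) (hden : ∀ d, ∃ m a, φ a = φ c ^ m * d) (hker : ∀ a, φ a = 0 → ∃ m, c ^ m * a = 0) :
    IsUnit (Polynomial.mapAlgHom φ (Polynomial.C c)) ∧
      (∀ d, ∃ m a, Polynomial.mapAlgHom φ a = Polynomial.mapAlgHom φ (Polynomial.C c) ^ m * d) ∧
      ∀ a, Polynomial.mapAlgHom φ a = 0 → ∃ m, Polynomial.C c ^ m * a = 0 := by
  have hC : Polynomial.mapAlgHom φ (Polynomial.C c) = Polynomial.C (φ c) := by simp
  refine ⟨hC ▸ Polynomial.isUnit_C.2 hc, fun d => ?_, fun a ha => ?_⟩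
  · rw [hC]
    induction d using Polynomial.induction_on' with
    | add p q hp hq =>
      obtain ⟨m, a, ha⟩ := hp
      obtain ⟨l, b, hb⟩ := hq
      refine ⟨m + l, Polynomial.C c ^ l * a + Polynomial.C c ^ m * b, ?_⟩
      rw [map_add, map_mul, map_mul, map_pow, map_pow, hC, ha, hb]
      ring
    | monomial n r =>
      obtain ⟨m, a, ha⟩ := hden r
      refine ⟨m, monomial n a, ?_⟩
      rw [show Polynomial.mapAlgHom φ (monomial n a) = monomial n (φ a) from Polynomial.map_monomial φ.toRingHom,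
        ha, ← Polynomial.C_pow, Polynomial.C_mul_monomial]
  · choose e he using fun n => hker (a.coeff n) (by
      have := congrArg (fun z => Polynomial.coeff z n) ha
      simpa using this)
    refine ⟨a.support.sup e, Polynomial.ext fun n => ?_⟩
    rw [← Polynomial.C_pow, Polynomial.coeff_C_mul, Polynomial.coeff_zero]
    by_cases hn : n ∈ a.support
    · obtain ⟨d, hd⟩ := Nat.exists_eq_add_of_le (show e n ≤ a.support.sup e from Finset.le_sup hn)
      rw [hd, pow_add, mul_right_comm, he, zero_mul]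
    · rw [Polynomial.notMem_support_iff.1 hn, mul_zero]

/-- The localisation properties of `R[1/r'] → R[1/rr']`. -/
theorem away_loc (r r' : R) (A' B : Type u) [CommRing A'] [CommRing B] [Algebra R A'] [Algebra R B]
    [IsLocalization.Away r' A'] [IsLocalization.Away (r * r') B] (φ : A' →ₐ[R] B) :
    IsUnit (φ (algebraMap R A' r)) ∧ (∀ d, ∃ m a, φ a = φ (algebraMap R A' r) ^ m * d) ∧
      ∀ a, φ a = 0 → ∃ m, algebraMap R A' r ^ m * a = 0 := by
  have hu : IsUnit (algebraMap R B r * algebraMap R B r') := by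
    rw [← map_mul]; exact IsLocalization.Away.algebraMap_isUnit _
  obtain ⟨hur, hur'⟩ := IsUnit.mul_iff.1 hu
  have hA : IsUnit (algebraMap R A' r') := IsLocalization.Away.algebraMap_isUnit r'
  refine ⟨by rw [φ.commutes]; exact hur, fun d => ?_, fun a ha => ?_⟩
  · obtain ⟨m, x, hx⟩ := IsLocalization.Away.surj (r * r') d
    refine ⟨m, algebraMap R A' x * ↑((hA.unit ^ m)⁻¹), ?_⟩
    apply (hur'.pow m).mul_right_cancel
    rw [map_mul, mul_assoc (φ _), φ.commutes, φ.commutes, show algebraMap R B r' ^ m = φ ((hA.unit ^ m : A'ˣ) : A') by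
      rw [Units.val_pow_eq_pow_val, map_pow, IsUnit.unit_spec, φ.commutes], ← map_mul φ, Units.inv_mul, map_one, mul_one,
      Units.val_pow_eq_pow_val, map_pow φ, IsUnit.unit_spec, φ.commutes, ← hx, map_mul, mul_pow]
    ring
  · obtain ⟨m, x, hx⟩ := IsLocalization.Away.surj r' a
    have h1 : algebraMap R B x = 0 := by
      rw [← φ.commutes, ← hx, map_mul, ha, zero_mul]
    obtain ⟨⟨_, e, rfl⟩, he⟩ := (IsLocalization.map_eq_zero_iff (Submonoid.powers (r * r')) B x).1 h1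
    refine ⟨e, (hA.pow (e + m)).mul_right_cancel ?_⟩
    rw [zero_mul, ← map_zero (algebraMap R A'), ← he, map_mul (algebraMap R A'), ← hx, map_pow, map_mul]
    ring

theorem main (r r' : R) (hrr : Ideal.span ({r, r'} : Set R) = ⊤)
    (A A' B : Type u) [CommRing A] [CommRing A'] [CommRing B] [Algebra R A] [Algebra R A'] [Algebra R B]
    [IsLocalization.Away r A] [IsLocalization.Away r' A'] [IsLocalization.Away (r * r') B]
    (φ : A →ₐ[R] B) (φ' : A' →ₐ[R] B)
    (g : pt B[X] ⟶ G) (hg : pm ((aeval (0 : B)).restrictScalars R) ≫ g = 1) :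
    ∃ (g₁ : pt A[X] ⟶ G) (g₂ : pt A'[X] ⟶ G),
      pm ((aeval (0 : A)).restrictScalars R) ≫ g₁ = 1 ∧ pm ((aeval (0 : A')).restrictScalars R) ≫ g₂ = 1 ∧
        g = (pm (Polynomial.mapAlgHom φ) ≫ g₁) * (pm (Polynomial.mapAlgHom φ') ≫ g₂) := by
  haveI : IsLocalization.Away (r' * r) B := mul_comm r r' ▸ ‹IsLocalization.Away (r * r') B›
  -- variables: `T` inner, `Y`, `Z` outer
  let T₁ : B[X][X][X] := Polynomial.C (Polynomial.C X)
  let Y : B[X][X][X] := Polynomial.C X
  let u₁ : B[X] →ₐ[R] B[X][X][X] := (aeval ((Y + X) * T₁)).restrictScalars R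
  let u₂ : B[X] →ₐ[R] B[X][X][X] := (aeval (Y * T₁)).restrictScalars R
  obtain ⟨a₁, d₁, k₁⟩ := away_loc r' r A B φ
  obtain ⟨b₁, e₁, l₁⟩ := poly_loc φ _ a₁ d₁ k₁
  obtain ⟨c₁, f₁, m₁⟩ := poly_loc _ _ b₁ e₁ l₁
  obtain ⟨N₁, h₁, h₁0, h₁e⟩ := exists_extend_point G _ _ c₁ f₁ m₁ ((pm u₁ ≫ g) * (pm u₂ ≫ g)⁻¹) (by
    rw [MonObj.comp_mul, GrpObj.comp_inv, pm_pm, pm_pm]
    suffices h : ((aeval (0 : B[X][X])).restrictScalars R).comp u₁ = ((aeval (0 : B[X][X])).restrictScalars R).comp u₂ by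
      rw [h, mul_inv_cancel]
    refine AlgHom.ext fun p => ?_
    show aeval (0 : B[X][X]) (aeval ((Y + X) * T₁) p) = aeval (0 : B[X][X]) (aeval (Y * T₁) p)
    induction p using Polynomial.induction_on' with
    | add p q hp hq => simp only [map_add, hp, hq]
    | monomial n s => simp [T₁, Y])
  let w : B[X] →ₐ[R] B[X][X] := (aeval ((X : B[X][X]) * Polynomial.C X)).restrictScalars R
  obtain ⟨a₂, d₂, k₂⟩ := away_loc r r' A' B φ'
  obtain ⟨b₂, e₂, l₂⟩ := poly_loc φ' _ a₂ d₂ k₂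
  obtain ⟨N₂, h₂, h₂0, h₂e⟩ := exists_extend_point G _ _ b₂ e₂ l₂ (pm w ≫ g) (by
    rw [pm_pm]
    have : ((aeval (0 : B[X])).restrictScalars R).comp w =
        ((Polynomial.CAlgHom : B →ₐ[B] B[X]).restrictScalars R).comp ((aeval (0 : B)).restrictScalars R) := by
      refine AlgHom.ext fun p => ?_
      induction p using Polynomial.induction_on' with
      | add p q hp hq => simp only [map_add, hp, hq]
      | monomial n s =>
        rcases n with _ | n <;> simp [w]
    rw [this, ← pm_pm, hg, MonObj.comp_one])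
  obtain ⟨s, t, hst⟩ : ∃ s t : R, s * r ^ N₂ + t * r' ^ N₁ = 1 := by
    obtain ⟨s, t, h⟩ := Ideal.mem_span_pair.1 (hrr ▸ Submodule.mem_top : (1 : R) ∈ Ideal.span {r, r'})
    obtain ⟨s', t', h'⟩ := (IsCoprime.pow (m := N₂) (n := N₁) (⟨s, t, h⟩ : IsCoprime r r'))
    exact ⟨s', t', h'⟩
  let a : R := s * r ^ N₂
  -- specialisations
  let θ₁ : A[X][X][X] →ₐ[R] A[X] :=
    ((aeval (algebraMap R A[X] a)).restrictScalars R).comp ((aeval (algebraMap R A[X][X] t)).restrictScalars R)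
  let θ₂ : A'[X][X] →ₐ[R] A'[X] := (aeval (algebraMap R A'[X] s)).restrictScalars R
  let q₁ := pm θ₁ ≫ h₁
  let q₂ := pm θ₂ ≫ h₂
  let c₀ : A →ₐ[R] A[X] := (Polynomial.CAlgHom : A →ₐ[A] A[X]).restrictScalars R
  let c₀' : A' →ₐ[R] A'[X] := (Polynomial.CAlgHom : A' →ₐ[A'] A'[X]).restrictScalars R
  let z : A[X] →ₐ[R] A := (aeval (0 : A)).restrictScalars R
  let z' : A'[X] →ₐ[R] A' := (aeval (0 : A')).restrictScalars R
  have hz : z.comp c₀ = AlgHom.id R A := AlgHom.ext fun x => by simp [z, c₀]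
  have hz' : z'.comp c₀' = AlgHom.id R A' := AlgHom.ext fun x => by simp [z', c₀']
  refine ⟨q₁ * (pm c₀ ≫ pm z ≫ q₁)⁻¹, q₂ * (pm c₀' ≫ pm z' ≫ q₂)⁻¹, ?_, ?_, ?_⟩
  · rw [MonObj.comp_mul, GrpObj.comp_inv, ← Category.assoc (pm z) (pm c₀), ← pm_comp, hz, pm_id, Category.id_comp,
      mul_inv_cancel]
  · rw [MonObj.comp_mul, GrpObj.comp_inv, ← Category.assoc (pm z') (pm c₀'), ← pm_comp, hz', pm_id, Category.id_comp,
      mul_inv_cancel]
  -- the two products
  let sc : B[X] →ₐ[R] B[X] := (aeval (algebraMap R B[X] a * X)).restrictScalars R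
  let Θ₁ : B[X][X][X] →ₐ[R] B[X] :=
    ((aeval (algebraMap R B[X] a)).restrictScalars R).comp ((aeval (algebraMap R B[X][X] t)).restrictScalars R)
  let Θ₂ : B[X][X] →ₐ[R] B[X] := (aeval (algebraMap R B[X] s)).restrictScalars R
  have q₁e : pm (Polynomial.mapAlgHom φ) ≫ q₁ = g * (pm sc ≫ g)⁻¹ := by
    have e : (Polynomial.mapAlgHom φ).comp θ₁ = Θ₁.comp (Polynomial.mapAlgHom (Polynomial.mapAlgHom (Polynomial.mapAlgHom φ))) := by
      refine Polynomial.algHom_ext' (Polynomial.algHom_ext' (Polynomial.algHom_ext' (AlgHom.ext fun x => ?_) ?_) ?_) ?_ <;>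
        simp [θ₁, Θ₁]
    simp only [q₁]
    rw [pm_sq G (T := A[X][X][X]) (U := A[X]) (U' := B[X][X][X]) (V := B[X]) (f := θ₁) (g := Polynomial.mapAlgHom φ) (g' := Θ₁) (f' := Polynomial.mapAlgHom (Polynomial.mapAlgHom (Polynomial.mapAlgHom φ))) e, h₁e, MonObj.comp_mul, GrpObj.comp_inv, MonObj.comp_mul, GrpObj.comp_inv, pm_pm, pm_pm, pm_pm,
      pm_pm]
    have id₁ : (Θ₁.comp ((aeval (Polynomial.C
        (Polynomial.mapAlgHom (Polynomial.mapAlgHom φ) (Polynomial.C (Polynomial.C (algebraMap R A r'))) ^ N₁) * X :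
          B[X][X][X])).restrictScalars R)).comp u₁ = AlgHom.id R B[X] := by
      refine Polynomial.algHom_ext' (AlgHom.ext fun x => ?_) ?_
      · simp [Θ₁, u₁]
      · simp [Θ₁, u₁, T₁, Y, a]
        simp only [← map_pow, ← map_mul, ← map_add]
        rw [show s * r ^ N₂ + r' ^ N₁ * t = 1 by rw [mul_comm _ t]; exact hst, map_one, map_one]
    have id₂ : (Θ₁.comp ((aeval (Polynomial.C
        (Polynomial.mapAlgHom (Polynomial.mapAlgHom φ) (Polynomial.C (Polynomial.C (algebraMap R A r'))) ^ N₁) * X :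
          B[X][X][X])).restrictScalars R)).comp u₂ = sc := by
      refine Polynomial.algHom_ext' (AlgHom.ext fun x => ?_) ?_
      · simp [Θ₁, u₂, sc]
      · simp [Θ₁, u₂, sc, T₁, Y, a]
        ring
    rw [id₁, id₂, pm_id, Category.id_comp]
  have q₂e : pm (Polynomial.mapAlgHom φ') ≫ q₂ = pm sc ≫ g := by
    have e : (Polynomial.mapAlgHom φ').comp θ₂ = Θ₂.comp (Polynomial.mapAlgHom (Polynomial.mapAlgHom φ')) := by
      refine Polynomial.algHom_ext' (Polynomial.algHom_ext' (AlgHom.ext fun x => ?_) ?_) ?_ <;>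
        simp [θ₂, Θ₂]
    simp only [q₂]
    rw [pm_sq G (T := A'[X][X]) (U := A'[X]) (U' := B[X][X]) (V := B[X]) (f := θ₂) (g := Polynomial.mapAlgHom φ') (g' := Θ₂) (f' := Polynomial.mapAlgHom (Polynomial.mapAlgHom φ')) e, h₂e, pm_pm, pm_pm]
    congr 2
    refine Polynomial.algHom_ext' (AlgHom.ext fun x => ?_) ?_
    · simp [Θ₂, w, sc]
    · simp [Θ₂, w, sc, a]
      ring
  let z₀ : B[X] →ₐ[R] B := (aeval (0 : B)).restrictScalars R
  have hB : pm ((Polynomial.CAlgHom : B →ₐ[B] B[X]).restrictScalars R) ≫ pm z₀ ≫ g = 1 := by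
    rw [hg, MonObj.comp_one]
  have hsc : z₀.comp sc = z₀ := by
    refine Polynomial.algHom_ext' (AlgHom.ext fun x => ?_) ?_ <;> simp [z₀, sc]
  have n₁ : pm (Polynomial.mapAlgHom φ) ≫ pm c₀ ≫ pm z ≫ q₁ = 1 := by
    rw [pm_pm, pm_pm, show ((Polynomial.mapAlgHom φ).comp c₀).comp z =
        (((Polynomial.CAlgHom : B →ₐ[B] B[X]).restrictScalars R).comp z₀).comp (Polynomial.mapAlgHom φ) from
      Polynomial.algHom_ext' (AlgHom.ext fun x => by simp [c₀, z, z₀]) (by simp [c₀, z, z₀]),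
      pm_comp, Category.assoc, q₁e, pm_comp, Category.assoc, MonObj.comp_mul, GrpObj.comp_inv, hg, pm_pm G sc, hsc, hg, inv_one, one_mul, MonObj.comp_one]
  have n₂ : pm (Polynomial.mapAlgHom φ') ≫ pm c₀' ≫ pm z' ≫ q₂ = 1 := by
    rw [pm_pm, pm_pm, show ((Polynomial.mapAlgHom φ').comp c₀').comp z' =
        (((Polynomial.CAlgHom : B →ₐ[B] B[X]).restrictScalars R).comp z₀).comp (Polynomial.mapAlgHom φ') from
      Polynomial.algHom_ext' (AlgHom.ext fun x => by simp [c₀', z', z₀]) (by simp [c₀', z', z₀]),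
      pm_comp, Category.assoc, q₂e, pm_comp, Category.assoc, pm_pm G sc, hsc, hg, MonObj.comp_one]
  rw [MonObj.comp_mul, GrpObj.comp_inv, q₁e, n₁, inv_one, mul_one, MonObj.comp_mul, GrpObj.comp_inv, q₂e, n₂,
    inv_one, mul_one, inv_mul_cancel_right]

end Groth.Agent.LoopDec25
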