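import Mathlib.AlgebraicGeometry.PullbackCarrier
import Mathlib.AlgebraicGeometry.AffineScheme
import Mathlib.AlgebraicGeometry.Gluing
import Mathlib.AlgebraicGeometry.Cover.Open
import Mathlib.RingTheory.Localization.Away.Basic
import Mathlib.RingTheory.Nilpotent.Lemmas
import Mathlib.RingTheory.Spectrum.Prime.RingHom

/-!
# Morphisms out of the spectrum of a fibre product of rings (one map surjective)
-/

universe u

open AlgebraicGeometry CategoryTheory CategoryTheory.Limits

namespace Groth.Agent.LoopDec25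

/-- `Spec` of a ring map. -/
noncomputable abbrev sp {R S : Type u} [CommRing R] [CommRing S] (f : R →+* S) :
    Spec (CommRingCat.of S) ⟶ Spec (CommRingCat.of R) :=
  Spec.map (CommRingCat.ofHom f)

theorem sp_comp {R S T : Type u} [CommRing R] [CommRing S] [CommRing T] (f : R →+* S) (g : S →+* T) :
    sp (g.comp f) = sp g ≫ sp f := by
  rw [sp, CommRingCat.ofHom_comp, Spec.map_comp]

theorem sp_id (R : Type u) [CommRing R] : sp (RingHom.id R) = 𝟙 (Spec (CommRingCat.of R)) := by
  rw [sp, CommRingCat.ofHom_id, Spec.map_id]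

variable {P : Type u} [CommRing P]

/-- The inclusion of a basic open. -/
noncomputable abbrev loc (p : P) :
    Spec (CommRingCat.of (Localization.Away p)) ⟶ Spec (CommRingCat.of P) :=
  sp (algebraMap P (Localization.Away p))

theorem range_loc (p : P) : Set.range (loc p) = {x | p ∉ x.asIdeal} :=
  PrimeSpectrum.localization_away_comap_range (Localization.Away p) p

/-- Localisation of a ring map at an element. -/
noncomputable abbrev locMap {Q : Type u} [CommRing Q] (φ : P →+* Q) (p : P) :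
    Localization.Away p →+* Localization.Away (φ p) :=
  IsLocalization.Away.map (Localization.Away p) (Localization.Away (φ p)) φ p

theorem locMap_comp {Q : Type u} [CommRing Q] (φ : P →+* Q) (p : P) :
    (locMap φ p).comp (algebraMap P (Localization.Away p)) = (algebraMap Q _).comp φ :=
  IsLocalization.map_comp _

theorem sp_locMap_loc {Q : Type u} [CommRing Q] (φ : P →+* Q) (p : P) :
    sp (locMap φ p) ≫ loc p = loc (φ p) ≫ sp φ := by
  rw [← sp_comp, locMap_comp, sp_comp]

theorem factor {Q : Type u} [CommRing Q] (φ : P →+* Q) (p : P) {T : Scheme.{u}}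
    (t : T ⟶ Spec (CommRingCat.of (Localization.Away p))) (v : T ⟶ Spec (CommRingCat.of Q))
    (e : t ≫ loc p = v ≫ sp φ) :
    ∃ l, l ≫ loc (φ p) = v ∧ l ≫ sp (locMap φ p) = t := by
  have hr : Set.range v ⊆ Set.range (loc (φ p)) := by
    rw [range_loc]
    rintro _ ⟨z, rfl⟩
    have h1 : (loc p) (t z) = (sp φ) (v z) := by
      rw [← Scheme.Hom.comp_apply, e, Scheme.Hom.comp_apply]
    have h2 : (sp φ) (v z) ∈ Set.range (loc p) := ⟨t z, h1⟩
    rw [range_loc] at h2
    exact h2
  refine ⟨IsOpenImmersion.lift (loc (φ p)) v hr, IsOpenImmersion.lift_fac _ _ _, ?_⟩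
  rw [← cancel_mono (loc p), Category.assoc, sp_locMap_loc, IsOpenImmersion.lift_fac_assoc, e]

variable {C F : Type u} [CommRing C] [CommRing F] (π₀ : P →+* C) (π₁ : P →+* F)

theorem locMap_injective (hinj : ∀ x, π₀ x = 0 → π₁ x = 0 → x = 0) (p : P) :
    Function.Injective ((locMap π₀ p).prod (locMap π₁ p)) := by
  rw [injective_iff_map_eq_zero]
  intro x hx
  obtain ⟨a, ⟨_, m, rfl⟩, rfl⟩ := IsLocalization.exists_mk'_eq (Submonoid.powers p) x
  simp only [RingHom.prod_apply, Prod.mk_eq_zero, locMap, IsLocalization.Away.map, IsLocalization.map_mk',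
    IsLocalization.mk'_eq_zero_iff] at hx
  obtain ⟨⟨⟨_, e₀, rfl⟩, h₀⟩, ⟨⟨_, e₁, rfl⟩, h₁⟩⟩ := hx
  rw [IsLocalization.mk'_eq_zero_iff]
  refine ⟨⟨p ^ (e₀ + e₁), e₀ + e₁, rfl⟩, hinj _ ?_ ?_⟩
  · show π₀ (p ^ (e₀ + e₁) * a) = 0
    rw [map_mul, map_pow, pow_add, mul_comm (π₀ p ^ e₀), mul_assoc, h₀, mul_zero]
  · show π₁ (p ^ (e₀ + e₁) * a) = 0
    rw [map_mul, map_pow, pow_add, mul_assoc, h₁, mul_zero]

/-- Morphisms from an open of `Spec P` are determined on the two parts. -/
theorem hom_ext_open (hinj : ∀ x, π₀ x = 0 → π₁ x = 0 → x = 0)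
    (hsurj : ∀ x : PrimeSpectrum P, (∃ y, PrimeSpectrum.comap π₀ y = x) ∨ ∃ y, PrimeSpectrum.comap π₁ y = x)
    {U X : Scheme.{u}} (j : U ⟶ Spec (CommRingCat.of P)) [IsOpenImmersion j] (a b : U ⟶ X)
    (h₀ : ∀ (T : Scheme.{u}) (t : T ⟶ U) (v : T ⟶ Spec (CommRingCat.of C)), t ≫ j = v ≫ sp π₀ → t ≫ a = t ≫ b)
    (h₁ : ∀ (T : Scheme.{u}) (t : T ⟶ U) (v : T ⟶ Spec (CommRingCat.of F)), t ≫ j = v ≫ sp π₁ → t ≫ a = t ≫ b) :
    a = b := by
  refine Scheme.hom_ext_of_forall a b fun z => ?_
  have hab : a z = b z := by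
    rcases hsurj (j z) with ⟨y, hy⟩ | ⟨y, hy⟩
    · obtain ⟨w, hw, -⟩ := Scheme.Pullback.exists_preimage_pullback (f := j) (g := sp π₀) z y hy.symm
      have e := congrArg (fun f => f w) (h₀ _ (pullback.fst j (sp π₀)) (pullback.snd j (sp π₀)) pullback.condition)
      rw [← hw, ← Scheme.Hom.comp_apply, ← Scheme.Hom.comp_apply]
      exact e
    · obtain ⟨w, hw, -⟩ := Scheme.Pullback.exists_preimage_pullback (f := j) (g := sp π₁) z y hy.symm
      have e := congrArg (fun f => f w) (h₁ _ (pullback.fst j (sp π₁)) (pullback.snd j (sp π₁)) pullback.condition)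
      rw [← hw, ← Scheme.Hom.comp_apply, ← Scheme.Hom.comp_apply]
      exact e
  obtain ⟨W, hW, hzW, -⟩ := exists_isAffineOpen_mem_and_subset (X := X) (x := a z) (U := ⊤) trivial
  let O : Set U := (a ⁻¹ᵁ W ⊓ b ⁻¹ᵁ W : U.Opens)
  have hO : IsOpen (j '' O) := j.isOpenEmbedding.isOpenMap _ (a ⁻¹ᵁ W ⊓ b ⁻¹ᵁ W).isOpen
  obtain ⟨_, ⟨p, rfl⟩, hp1, hp2⟩ :=
    PrimeSpectrum.isTopologicalBasis_basic_opens.exists_subset_of_mem_open (Set.mem_image_of_mem j
      (show z ∈ O from ⟨hzW, show b z ∈ W by rwa [← hab]⟩)) hO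
  have hrange : Set.range (loc p) ⊆ j '' O := by
    rw [range_loc]
    intro x hx
    exact hp2 hx
  let i : Spec (CommRingCat.of (Localization.Away p)) ⟶ U :=
    IsOpenImmersion.lift j (loc p) (hrange.trans (Set.image_subset_range _ _))
  have hij : i ≫ j = loc p := IsOpenImmersion.lift_fac _ _ _
  haveI : IsOpenImmersion i := by
    have : IsOpenImmersion (i ≫ j) := by rw [hij]; infer_instance
    exact IsOpenImmersion.of_comp i j
  have hiO : ∀ w, i w ∈ O := fun w => by
    obtain ⟨u, hu, huj⟩ := hrange ⟨w, rfl⟩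
    rw [← hij, Scheme.Hom.comp_apply] at huj
    rwa [← j.isOpenEmbedding.injective huj]
  have hra : Set.range (i ≫ a) ⊆ Set.range hW.fromSpec := by
    rw [hW.range_fromSpec]; rintro _ ⟨w, rfl⟩; exact (hiO w).1
  have hrb : Set.range (i ≫ b) ⊆ Set.range hW.fromSpec := by
    rw [hW.range_fromSpec]; rintro _ ⟨w, rfl⟩; exact (hiO w).2
  set a' := IsOpenImmersion.lift hW.fromSpec (i ≫ a) hra with ha'
  set b' := IsOpenImmersion.lift hW.fromSpec (i ≫ b) hrb with hb'
  have key : a' = b' := by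
    rw [← Spec.map_preimage a', ← Spec.map_preimage b']
    congr 1
    refine CommRingCat.hom_ext (RingHom.ext fun r => locMap_injective π₀ π₁ hinj p (Prod.ext ?_ ?_))
    · have e : sp (locMap π₀ p) ≫ a' = sp (locMap π₀ p) ≫ b' := by
        rw [← cancel_mono hW.fromSpec, Category.assoc, Category.assoc, ha', hb', IsOpenImmersion.lift_fac,
          IsOpenImmersion.lift_fac]
        have := h₀ _ (sp (locMap π₀ p) ≫ i) (loc (π₀ p)) (by rw [Category.assoc, hij, sp_locMap_loc])
        simpa using this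
      rw [← Spec.map_preimage a', ← Spec.map_preimage b', ← Spec.map_comp, ← Spec.map_comp] at e
      exact congr($(Spec.map_injective e) r)
    · have e : sp (locMap π₁ p) ≫ a' = sp (locMap π₁ p) ≫ b' := by
        rw [← cancel_mono hW.fromSpec, Category.assoc, Category.assoc, ha', hb', IsOpenImmersion.lift_fac,
          IsOpenImmersion.lift_fac]
        have := h₁ _ (sp (locMap π₁ p) ≫ i) (loc (π₁ p)) (by rw [Category.assoc, hij, sp_locMap_loc])
        simpa using this
      rw [← Spec.map_preimage a', ← Spec.map_preimage b', ← Spec.map_comp, ← Spec.map_comp] at e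
      exact congr($(Spec.map_injective e) r)
  have hia : i ≫ a = i ≫ b := by
    rw [← IsOpenImmersion.lift_fac hW.fromSpec (i ≫ a) hra, ← ha', key, hb', IsOpenImmersion.lift_fac]
  obtain ⟨w, hw⟩ : z ∈ Set.range i := by
    have : j z ∈ Set.range (loc p) := by rw [range_loc]; exact hp1
    obtain ⟨w, hw⟩ := this
    rw [← hij, Scheme.Hom.comp_apply] at hw
    exact ⟨w, j.isOpenEmbedding.injective hw⟩
  refine ⟨i.opensRange, ⟨w, hw⟩, ?_⟩
  rw [← IsOpenImmersion.lift_fac i i.opensRange.ι (by rw [Scheme.Opens.range_ι]; exact le_rfl), Category.assoc,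
    Category.assoc, hia]

variable {E : Type u} [CommRing E] (ι : C →+* E) (ev : F →+* E)

/-- Morphisms out of the spectrum of a fibre product. -/
theorem exists_glue (hev : Function.Surjective ev) (hcomm : ι.comp π₀ = ev.comp π₁)
    (hinj : ∀ x, π₀ x = 0 → π₁ x = 0 → x = 0)
    (hlift : ∀ c f, ι c = ev f → ∃ x, π₀ x = c ∧ π₁ x = f)
    {X : Scheme.{u}} (h₀ : Spec (CommRingCat.of C) ⟶ X) (h₁ : Spec (CommRingCat.of F) ⟶ X)
    (hc : sp ι ≫ h₀ = sp ev ≫ h₁) :
    (∀ {Y : Scheme.{u}} (a b : Spec (CommRingCat.of P) ⟶ Y),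
      sp π₀ ≫ a = sp π₀ ≫ b → sp π₁ ≫ a = sp π₁ ≫ b → a = b) ∧
    ∃ σ : Spec (CommRingCat.of P) ⟶ X, sp π₀ ≫ σ = h₀ ∧ sp π₁ ≫ σ = h₁ := by
  have hsurj : ∀ x : PrimeSpectrum P,
      (∃ y, PrimeSpectrum.comap π₀ y = x) ∨ ∃ y, PrimeSpectrum.comap π₁ y = x := by
    intro x
    have hs : Function.Surjective π₀ := fun c => by
      obtain ⟨f, hf⟩ := hev (ι c)
      obtain ⟨y, hy, -⟩ := hlift c f hf.symm
      exact ⟨y, hy⟩
    by_cases hk : RingHom.ker π₀ ≤ x.asIdeal
    · left
      have : x ∈ Set.range (PrimeSpectrum.comap π₀) := by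
        rw [range_comap_of_surjective _ _ hs]; exact hk
      exact this
    · right
      obtain ⟨e, he, hex⟩ := SetLike.not_le_iff_exists.1 hk
      have hev0 : ev (π₁ e) = 0 := by
        rw [← RingHom.comp_apply, ← hcomm, RingHom.comp_apply, (RingHom.mem_ker.1 he), map_zero]
      choose M hM₀ hM₁ using fun g : F => hlift 0 (π₁ e * g) (by rw [map_mul, hev0, zero_mul, map_zero])
      have hext : ∀ u v, π₀ u = π₀ v → π₁ u = π₁ v → u = v := fun u v h h' =>
        sub_eq_zero.1 (hinj _ (by rw [map_sub, h, sub_self]) (by rw [map_sub, h', sub_self]))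
      have hMπ : ∀ y, M (π₁ y) = e * y := fun y => hext _ _
        (by rw [hM₀, map_mul, RingHom.mem_ker.1 he, zero_mul]) (by rw [hM₁, map_mul])
      let I : Ideal F :=
        { carrier := {g | M g ∈ x.asIdeal}
          add_mem' := fun {g g'} hg hg' => by
            show M (g + g') ∈ x.asIdeal
            rw [show M (g + g') = M g + M g' from hext _ _ (by simp [hM₀]) (by simp [hM₁, mul_add])]
            exact add_mem hg hg'
          zero_mem' := by
            show M 0 ∈ x.asIdeal
            rw [show M 0 = 0 from hext _ _ (by simp [hM₀]) (by simp [hM₁])]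
            exact zero_mem _
          smul_mem' := fun g g' hg => by
            show M (g * g') ∈ x.asIdeal
            have h : e * M (g * g') = M g * M g' := hext _ _ (by simp [hM₀, RingHom.mem_ker.1 he])
              (by simp [hM₁]; ring)
            exact ((x.isPrime.mem_or_mem (h ▸ Ideal.mul_mem_left _ _ hg)).resolve_left hex) }
      haveI : I.IsPrime := by
        refine Ideal.isPrime_iff.2 ⟨fun h => hex ?_, fun {g g'} hg => ?_⟩
        · have h1 : M 1 ∈ x.asIdeal := show (1 : F) ∈ I by rw [h]; trivial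
          rwa [show M 1 = e from hext _ _ (by simp [hM₀, RingHom.mem_ker.1 he]) (by simp [hM₁])] at h1
        · have h : M g * M g' = e * M (g * g') := hext _ _ (by simp [hM₀, RingHom.mem_ker.1 he])
            (by simp [hM₁]; ring)
          exact x.isPrime.mem_or_mem (h ▸ Ideal.mul_mem_left _ _ hg)
      refine ⟨⟨I, inferInstance⟩, PrimeSpectrum.ext (Ideal.ext fun y => ?_)⟩
      show M (π₁ y) ∈ x.asIdeal ↔ y ∈ x.asIdeal
      rw [hMπ]
      exact ⟨fun h => (x.isPrime.mem_or_mem h).resolve_left hex, fun h => Ideal.mul_mem_left _ _ h⟩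
  refine ⟨fun {Y} a b e₀ e₁ => hom_ext_open π₀ π₁ hinj hsurj (𝟙 _) a b
    (fun T t v e => by rw [Category.comp_id] at e; rw [e, Category.assoc, Category.assoc, e₀])
    (fun T t v e => by rw [Category.comp_id] at e; rw [e, Category.assoc, Category.assoc, e₁]), ?_⟩
  -- the local morphisms
  have hloc : ∀ x : PrimeSpectrum P, ∃ (p : P) (_ : p ∉ x.asIdeal)
      (σ : Spec (CommRingCat.of (Localization.Away p)) ⟶ X),
        sp (locMap π₀ p) ≫ σ = loc (π₀ p) ≫ h₀ ∧ sp (locMap π₁ p) ≫ σ = loc (π₁ p) ≫ h₁ := by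
    intro x
    suffices h : ∃ (p : P) (U : X.Opens), IsAffineOpen U ∧ p ∉ x.asIdeal ∧
        (∀ y : PrimeSpectrum C, π₀ p ∉ y.asIdeal → h₀ y ∈ U) ∧
        ∀ y : PrimeSpectrum F, π₁ p ∉ y.asIdeal → h₁ y ∈ U by
      obtain ⟨p, U, hU, hp, hp₀, hp₁⟩ := h
      have r₀ : Set.range (loc (π₀ p) ≫ h₀) ⊆ Set.range hU.fromSpec := by
        rw [hU.range_fromSpec]
        rintro _ ⟨w, rfl⟩
        refine hp₀ _ ?_
        have := Set.mem_range_self (f := loc (π₀ p)) w
        rwa [range_loc] at this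
      have r₁ : Set.range (loc (π₁ p) ≫ h₁) ⊆ Set.range hU.fromSpec := by
        rw [hU.range_fromSpec]
        rintro _ ⟨w, rfl⟩
        refine hp₁ _ ?_
        have := Set.mem_range_self (f := loc (π₁ p)) w
        rwa [range_loc] at this
      set a₀ := Spec.preimage (IsOpenImmersion.lift hU.fromSpec (loc (π₀ p) ≫ h₀) r₀) with ha₀
      set a₁ := Spec.preimage (IsOpenImmersion.lift hU.fromSpec (loc (π₁ p) ≫ h₁) r₁) with ha₁
      let e := ι (π₀ p)
      have he : ev (π₁ p) = e := (RingHom.congr_fun hcomm p).symm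
      let lι : Localization.Away (π₀ p) →+* Localization.Away e :=
        IsLocalization.Away.map (Localization.Away (π₀ p)) (Localization.Away e) ι (π₀ p)
      have hu : IsUnit (((algebraMap E (Localization.Away e)).comp ev) (π₁ p)) := by
        rw [RingHom.comp_apply, he]; exact IsLocalization.Away.algebraMap_isUnit e
      let lev : Localization.Away (π₁ p) →+* Localization.Away e := IsLocalization.Away.lift (π₁ p) hu
      have hlι : lι.comp (algebraMap C _) = (algebraMap E (Localization.Away e)).comp ι := IsLocalization.map_comp _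
      have hlev : lev.comp (algebraMap F _) = (algebraMap E (Localization.Away e)).comp ev :=
        IsLocalization.Away.lift_comp _ hu
      have hcompat : lι.comp a₀.hom = lev.comp a₁.hom := by
        have h2 : sp lι ≫ Spec.map a₀ = sp lev ≫ Spec.map a₁ := by
          rw [← cancel_mono hU.fromSpec, ha₀, ha₁, Spec.map_preimage, Spec.map_preimage, Category.assoc,
            Category.assoc, IsOpenImmersion.lift_fac, IsOpenImmersion.lift_fac, ← Category.assoc,
            ← Category.assoc, ← sp_comp, ← sp_comp, hlι, hlev, sp_comp ι, sp_comp ev, Category.assoc, Category.assoc, hc]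
        rw [← Spec.map_comp, ← Spec.map_comp] at h2
        exact congrArg CommRingCat.Hom.hom (Spec.map_injective h2)
      let Φ := (locMap π₀ p).prod (locMap π₁ p)
      have hmem : ∀ r, (a₀.hom r, a₁.hom r) ∈ Φ.range := by
        intro r
        obtain ⟨m₀, c, hc'⟩ := IsLocalization.Away.surj (π₀ p) (a₀.hom r)
        obtain ⟨m₁, f, hf'⟩ := IsLocalization.Away.surj (π₁ p) (a₁.hom r)
        have heq : algebraMap E (Localization.Away e) (ι c * e ^ m₁) = algebraMap E _ (ev f * e ^ m₀) := by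
          have hh : lι (a₀.hom r) = lev (a₁.hom r) := RingHom.congr_fun hcompat r
          have u₀ := congrArg lι hc'
          have u₁ := congrArg lev hf'
          have hlι' : ∀ c, lι (algebraMap C (Localization.Away (π₀ p)) c) = algebraMap E (Localization.Away e) (ι c) :=
            RingHom.congr_fun hlι
          have hlev' : ∀ f, lev (algebraMap F (Localization.Away (π₁ p)) f) = algebraMap E (Localization.Away e) (ev f) :=
            RingHom.congr_fun hlev
          rw [map_mul, map_pow, hlι', hlι'] at u₀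
          rw [map_mul, map_pow, hlev', hlev', he] at u₁
          rw [map_mul, map_mul, map_pow, map_pow, ← u₀, ← u₁, hh, mul_right_comm]
        obtain ⟨⟨_, d, rfl⟩, hd⟩ := (IsLocalization.eq_iff_exists (Submonoid.powers e) _).1 heq
        obtain ⟨y, hy₀, hy₁⟩ := hlift (c * π₀ p ^ (m₁ + d)) (f * π₁ p ^ (m₀ + d)) (by
          simp only [map_mul, map_pow, he]
          calc ι c * e ^ (m₁ + d) = e ^ d * (ι c * e ^ m₁) := by ring
            _ = e ^ d * (ev f * e ^ m₀) := hd
            _ = _ := by ring)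
        refine ⟨IsLocalization.mk' _ y (⟨p ^ (m₀ + m₁ + d), _, rfl⟩ : Submonoid.powers p), ?_⟩
        simp only [Φ, RingHom.prod_apply, locMap, IsLocalization.Away.map, IsLocalization.map_mk']
        refine Prod.ext ?_ ?_
        · rw [IsLocalization.mk'_eq_iff_eq_mul, hy₀]
          show algebraMap C _ (c * π₀ p ^ (m₁ + d)) = a₀.hom r * algebraMap C _ (π₀ (p ^ (m₀ + m₁ + d)))
          rw [map_pow π₀, map_mul, map_pow, map_pow, ← hc']
          ring
        · rw [IsLocalization.mk'_eq_iff_eq_mul, hy₁]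
          show algebraMap F _ (f * π₁ p ^ (m₀ + d)) = a₁.hom r * algebraMap F _ (π₁ (p ^ (m₀ + m₁ + d)))
          rw [map_pow π₁, map_mul, map_pow, map_pow, ← hf']
          ring
      have hΦ : Function.Injective Φ := locMap_injective π₀ π₁ hinj p
      let eΦ : Localization.Away p ≃+* Φ.range := RingEquiv.ofBijective Φ.rangeRestrict
        ⟨fun x y h => hΦ (congrArg Subtype.val h), Φ.rangeRestrict_surjective⟩
      let ψ : _ →+* Localization.Away p :=
        eΦ.symm.toRingHom.comp ((a₀.hom.prod a₁.hom).codRestrict Φ.range hmem)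
      have hψ : Φ.comp ψ = a₀.hom.prod a₁.hom := RingHom.ext fun r => by
        show ((eΦ (eΦ.symm ⟨(a₀.hom r, a₁.hom r), hmem r⟩) : Φ.range) : Localization.Away (π₀ p) × Localization.Away (π₁ p)) = _
        rw [RingEquiv.apply_symm_apply]
        rfl
      refine ⟨p, hp, Spec.map (CommRingCat.ofHom ψ) ≫ hU.fromSpec, ?_, ?_⟩
      · rw [← Category.assoc, ← Spec.map_comp, show CommRingCat.ofHom ψ ≫ CommRingCat.ofHom (locMap π₀ p) = a₀ from
          CommRingCat.hom_ext (RingHom.ext fun r => congrArg Prod.fst (RingHom.congr_fun hψ r)), ha₀,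
          Spec.map_preimage, IsOpenImmersion.lift_fac]
      · rw [← Category.assoc, ← Spec.map_comp, show CommRingCat.ofHom ψ ≫ CommRingCat.ofHom (locMap π₁ p) = a₁ from
          CommRingCat.hom_ext (RingHom.ext fun r => congrArg Prod.snd (RingHom.congr_fun hψ r)), ha₁,
          Spec.map_preimage, IsOpenImmersion.lift_fac]
    have hx : (∃ y, PrimeSpectrum.comap π₀ y = x) ∨
        ∃ y : PrimeSpectrum F, PrimeSpectrum.comap π₁ y = x ∧ ¬ RingHom.ker ev ≤ y.asIdeal := by
      rcases hsurj x with h | ⟨y, rfl⟩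
      · exact Or.inl h
      by_cases hk : RingHom.ker ev ≤ y.asIdeal
      · left
        obtain ⟨w, hw⟩ : y ∈ Set.range (PrimeSpectrum.comap ev) := by
          rw [range_comap_of_surjective _ _ hev]; exact hk
        refine ⟨PrimeSpectrum.comap ι w, ?_⟩
        rw [← hw, ← PrimeSpectrum.comap_comp_apply, hcomm, PrimeSpectrum.comap_comp_apply]
      · exact Or.inr ⟨y, rfl, hk⟩
    rcases hx with ⟨y, rfl⟩ | ⟨y, rfl, hk⟩
    · obtain ⟨U, hU, hyU, -⟩ := exists_isAffineOpen_mem_and_subset (X := X) (x := h₀ y) (U := ⊤) trivial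
      obtain ⟨_, ⟨s, rfl⟩, hs1, hs2⟩ :=
        PrimeSpectrum.isTopologicalBasis_basic_opens.exists_subset_of_mem_open
          (show y ∈ ((h₀ ⁻¹ᵁ U).1 : Set (PrimeSpectrum C)) from hyU) (h₀ ⁻¹ᵁ U).2
      obtain ⟨J, hJ⟩ := (PrimeSpectrum.isClosed_iff_zeroLocus_ideal _).1
        (h₁ ⁻¹ᵁ U).isOpen.isClosed_compl
      obtain ⟨f, hf⟩ := hev (ι s)
      have hrad : f ∈ (J ⊔ RingHom.ker ev).radical := by
        rw [Ideal.radical_eq_sInf, Ideal.mem_sInf]
        rintro Q ⟨hQ, hQp⟩
        by_contra hfQ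
        have hQ1 : (⟨Q, hQp⟩ : PrimeSpectrum F) ∈ PrimeSpectrum.zeroLocus (J : Set F) := le_sup_left.trans hQ
        rw [← hJ] at hQ1
        obtain ⟨w, hw⟩ : (⟨Q, hQp⟩ : PrimeSpectrum F) ∈ Set.range (PrimeSpectrum.comap ev) := by
          rw [range_comap_of_surjective _ _ hev]; exact le_sup_right.trans hQ
        refine hQ1 ?_
        show h₁ ⟨Q, hQp⟩ ∈ U
        rw [← hw]
        have h3 : (sp ev ≫ h₁) w = (sp ι ≫ h₀) w := by rw [hc]
        rw [Scheme.Hom.comp_apply, Scheme.Hom.comp_apply] at h3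
        refine (congrArg (· ∈ U) h3).mpr (hs2 ?_)
        show s ∉ (PrimeSpectrum.comap ι w).asIdeal
        intro hsw
        have : f ∈ (PrimeSpectrum.comap ev w).asIdeal := by
          show ev f ∈ w.asIdeal
          rw [hf]; exact hsw
        rw [hw] at this
        exact hfQ this
      obtain ⟨m, hm'⟩ := hrad
      have hm : f ^ (m + 1) ∈ J ⊔ RingHom.ker ev := by rw [pow_succ]; exact Ideal.mul_mem_right _ _ hm'
      obtain ⟨j, hj, z, hz, hjz⟩ := Submodule.mem_sup.1 hm
      obtain ⟨p, hp₀, hp₁⟩ := hlift (s ^ (m + 1)) j (by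
        rw [map_pow, ← hf, ← map_pow, ← hjz, map_add, RingHom.mem_ker.1 hz, add_zero])
      refine ⟨p, U, hU, ?_, fun y' hy' => ?_, fun y' hy' => ?_⟩
      · show π₀ p ∉ y.asIdeal
        rw [hp₀]
        exact fun h => hs1 (y.isPrime.mem_of_pow_mem _ h)
      · rw [hp₀] at hy'
        exact hs2 fun h => hy' (Ideal.pow_mem_of_mem _ h _ (Nat.succ_pos m))
      · rw [hp₁] at hy'
        by_contra hU'
        have : y' ∈ PrimeSpectrum.zeroLocus (J : Set F) := hJ ▸ hU'
        exact hy' (this hj)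
    · obtain ⟨U, hU, hyU, -⟩ := exists_isAffineOpen_mem_and_subset (X := X) (x := h₁ y) (U := ⊤) trivial
      obtain ⟨_, ⟨w, rfl⟩, hw1, hw2⟩ :=
        PrimeSpectrum.isTopologicalBasis_basic_opens.exists_subset_of_mem_open
          (show y ∈ ((h₁ ⁻¹ᵁ U).1 : Set (PrimeSpectrum F)) from hyU) (h₁ ⁻¹ᵁ U).2
      obtain ⟨f, hf, hfy⟩ := SetLike.not_le_iff_exists.1 hk
      obtain ⟨p, hp₀, hp₁⟩ := hlift 0 (f * w) (by rw [map_mul, RingHom.mem_ker.1 hf, zero_mul, map_zero])
      refine ⟨p, U, hU, ?_, fun y' hy' => ?_, fun y' hy' => ?_⟩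
      · show π₁ p ∉ y.asIdeal
        rw [hp₁]
        exact fun h => (y.isPrime.mem_or_mem h).elim hfy hw1
      · rw [hp₀] at hy'
        exact absurd (zero_mem _) hy'
      · rw [hp₁] at hy'
        exact hw2 fun h => hy' (Ideal.mul_mem_left _ _ h)
  choose p hp σ hσ₀ hσ₁ using hloc
  let 𝒰 : (Spec (CommRingCat.of P)).AffineOpenCover :=
    { I₀ := PrimeSpectrum P
      X := fun x => CommRingCat.of (Localization.Away (p x))
      f := fun x => loc (p x)
      idx := fun x => x
      covers := fun x => by rw [range_loc]; exact hp x }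
  have hglue : ∀ x y : PrimeSpectrum P,
      pullback.fst (loc (p x)) (loc (p y)) ≫ σ x = pullback.snd (loc (p x)) (loc (p y)) ≫ σ y := by
    intro x y
    refine hom_ext_open π₀ π₁ hinj hsurj (pullback.fst (loc (p x)) (loc (p y)) ≫ loc (p x)) _ _ ?_ ?_
    · intro T t v e
      obtain ⟨l, hl₁, hl₂⟩ := factor π₀ (p x) (t ≫ pullback.fst _ _) v (by rw [Category.assoc, e])
      obtain ⟨l', hl'₁, hl'₂⟩ := factor π₀ (p y) (t ≫ pullback.snd _ _) v
        (by rw [Category.assoc, ← pullback.condition, e])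
      rw [← Category.assoc, ← hl₂, Category.assoc, hσ₀, ← Category.assoc, hl₁, ← Category.assoc, ← hl'₂,
        Category.assoc, hσ₀, ← Category.assoc, hl'₁]
    · intro T t v e
      obtain ⟨l, hl₁, hl₂⟩ := factor π₁ (p x) (t ≫ pullback.fst _ _) v (by rw [Category.assoc, e])
      obtain ⟨l', hl'₁, hl'₂⟩ := factor π₁ (p y) (t ≫ pullback.snd _ _) v
        (by rw [Category.assoc, ← pullback.condition, e])
      rw [← Category.assoc, ← hl₂, Category.assoc, hσ₁, ← Category.assoc, hl₁, ← Category.assoc, ← hl'₂,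
        Category.assoc, hσ₁, ← Category.assoc, hl'₁]
  let glued : Spec (CommRingCat.of P) ⟶ X := 𝒰.openCover.glueMorphisms σ hglue
  have hglued : ∀ x, loc (p x) ≫ glued = σ x := fun x => 𝒰.openCover.ι_glueMorphisms σ hglue x
  refine ⟨glued, ?_, ?_⟩
  · refine Scheme.hom_ext_of_forall _ _ fun y => ?_
    set x := PrimeSpectrum.comap π₀ y
    refine ⟨(loc (π₀ (p x))).opensRange, (by
      show y ∈ Set.range (loc (π₀ (p x)))
      rw [range_loc]; exact hp x), ?_⟩
    rw [← IsOpenImmersion.lift_fac (loc (π₀ (p x))) (loc (π₀ (p x))).opensRange.ι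
      (by rw [Scheme.Opens.range_ι]; exact le_rfl), Category.assoc, Category.assoc, ← Category.assoc (loc (π₀ (p x))),
      ← sp_locMap_loc, Category.assoc, hglued, hσ₀]
  · refine Scheme.hom_ext_of_forall _ _ fun y => ?_
    set x := PrimeSpectrum.comap π₁ y
    refine ⟨(loc (π₁ (p x))).opensRange, (by
      show y ∈ Set.range (loc (π₁ (p x)))
      rw [range_loc]; exact hp x), ?_⟩
    rw [← IsOpenImmersion.lift_fac (loc (π₁ (p x))) (loc (π₁ (p x))).opensRange.ι
      (by rw [Scheme.Opens.range_ι]; exact le_rfl), Category.assoc, Category.assoc, ← Category.assoc (loc (π₁ (p x))),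
      ← sp_locMap_loc, Category.assoc, hglued, hσ₁]

end Groth.Agent.LoopDec25
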